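import Groth.Prelude.Def_W4swparbununimodPar
import Mathlib.Analysis.SpecificLimits.Basic
import Mathlib.Algebra.Polynomial.Eval.Coeff
import Mathlib.Data.Real.Basic

/-!
# Weighted sums along a filtration; large values of polynomials

The parabolic polynomial as a combination of the pieces with nonnegative coefficients, and the
coefficient of degree `e` of a polynomial of degree at most `e` as a limit.
-/

set_option autoImplicit false
universe v u

open CategoryTheory Polynomial Filter Topology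
open W4swparbununimod (rpoly)

noncomputable section

namespace Groth.Agent.Lib.ParPoly.Asymp

/-- The values of `rpoly`. -/
theorem rpoly_eval (P : ℚ[X]) (m : ℕ) : (rpoly P).eval (m : ℝ) = ((P.eval (m : ℚ) : ℚ) : ℝ) := by
  rw [show (m : ℝ) = Rat.castHom ℝ (m : ℚ) by simp, rpoly, eval_map, eval₂_at_apply]
  simp

/-- A polynomial of degree at most `e`, divided by `n ^ e`, tends to its coefficient of degree `e`. -/
theorem tendsto_div {D : ℝ[X]} {e : ℕ} (h : D.natDegree ≤ e) :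
    Tendsto (fun n : ℕ => D.eval (n : ℝ) / (n : ℝ) ^ e) atTop (𝓝 (D.coeff e)) := by
  have h1 : ∀ n : ℕ, D.eval (n : ℝ) / (n : ℝ) ^ e =
      ∑ i ∈ Finset.range (e + 1), D.coeff i * ((n : ℝ) ^ i / (n : ℝ) ^ e) := fun n => by
    rw [eval_eq_sum_range' (Nat.lt_succ_of_le h), div_eq_mul_inv, Finset.sum_mul]
    exact Finset.sum_congr rfl fun i _ => by rw [mul_assoc, ← div_eq_mul_inv]
  have h2 : D.coeff e = ∑ i ∈ Finset.range (e + 1), D.coeff i * (if i = e then (1 : ℝ) else 0) := by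
    simp
  simp only [h1]
  rw [h2]
  refine tendsto_finsetSum _ fun i hi => tendsto_const_nhds.mul ?_
  rcases eq_or_ne i e with rfl | hne
  · rw [if_pos rfl]
    refine tendsto_const_nhds.congr' ((eventually_ge_atTop 1).mono fun n hn => ?_)
    show (1 : ℝ) = _ / _
    rw [div_self]
    exact pow_ne_zero _ (by exact_mod_cast (show n ≠ 0 by omega))
  · rw [if_neg hne]
    have hlt : i < e := lt_of_le_of_ne (Nat.lt_succ_iff.mp (Finset.mem_range.mp hi)) hne
    have : Tendsto (fun n : ℕ => ((n : ℝ) ^ (e - i))⁻¹) atTop (𝓝 0) :=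
      ((tendsto_pow_atTop (by omega)).comp tendsto_natCast_atTop_atTop).inv_tendsto_atTop
    refine this.congr' ((eventually_ge_atTop 1).mono fun n hn => ?_)
    have hn0 : (n : ℝ) ≠ 0 := by exact_mod_cast (show n ≠ 0 by omega)
    have he : (n : ℝ) ^ e = (n : ℝ) ^ i * (n : ℝ) ^ (e - i) := by
      rw [← pow_add]; congr 1; omega
    show ((n : ℝ) ^ (e - i))⁻¹ = _ / _
    rw [he, ← div_div, div_self (pow_ne_zero _ hn0), one_div]

/-- Eventually nonnegative values force a nonnegative top coefficient. -/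
theorem coeff_nonneg {D : ℝ[X]} {e : ℕ} (h : D.natDegree ≤ e)
    (hev : ∀ᶠ m : ℕ in atTop, 0 ≤ D.eval (m : ℝ)) : 0 ≤ D.coeff e :=
  ge_of_tendsto (tendsto_div h) (hev.mono fun _ hm => div_nonneg hm (by positivity))

/-- A positive top coefficient forces eventually positive values. -/
theorem eventually_pos {D : ℝ[X]} {e : ℕ} (h : D.natDegree ≤ e) (hpos : 0 < D.coeff e) :
    ∀ᶠ m : ℕ in atTop, 0 < D.eval (m : ℝ) :=
  (((tendsto_div h).eventually_const_lt hpos).and (eventually_ge_atTop 1)).mono fun m hm => by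
    obtain ⟨h1, h2⟩ := hm
    have : (0 : ℝ) < (m : ℝ) ^ e := pow_pos (by exact_mod_cast h2) _
    exact (div_pos_iff_of_pos_right this).mp h1

/-- Abel summation. -/
theorem abel {A : Type*} [CommRing A] {n : ℕ} (w g : Fin (n + 2) → A) (hw : w (Fin.last _) = 1) :
    g (Fin.last _) + ∑ j : Fin (n + 1), w j.castSucc * (g j.castSucc - g j.succ) =
      w 0 * g 0 + ∑ j : Fin (n + 1), (w j.succ - w j.castSucc) * g j.succ := by
  have h1 := Fin.sum_univ_succ fun i => w i * g i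
  have h2 := Fin.sum_univ_castSucc fun i => w i * g i
  rw [hw, one_mul] at h2
  simp only [mul_sub, sub_mul, Finset.sum_sub_distrib]
  linear_combination h1 - h2

section Str

variable {𝒞 : Type u} [Category.{v} 𝒞] {E : 𝒞} (𝓔 : ParSh.Str E)

theorem zero_eq : (0 : Fin (𝓔.l + 2)) = (0 : Fin (𝓔.l + 1)).castSucc := rfl

theorem wtX_zero : 𝓔.wtX 0 = 𝓔.wt 0 := by rw [zero_eq 𝓔, ParSh.Str.wtX_castSucc]

theorem pieceX_zero : 𝓔.pieceX 0 = ⊤ := by
  rw [zero_eq 𝓔, ParSh.Str.pieceX_castSucc, 𝓔.piece_zero]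

/-- The steps of the weights. -/
abbrev step (j : Fin (𝓔.l + 1)) : ℝ := 𝓔.wtX j.succ - 𝓔.wtX j.castSucc

theorem step_nonneg (j : Fin (𝓔.l + 1)) : 0 ≤ step 𝓔 j := by
  rw [step, sub_nonneg, ParSh.Str.wtX_castSucc]
  induction j using Fin.lastCases with
  | last => rw [Fin.succ_last, ParSh.Str.wtX_last]; exact 𝓔.wt_lt_one.le
  | cast i =>
    rw [Fin.succ_castSucc, ParSh.Str.wtX_castSucc]
    exact (𝓔.wt_strictMono Fin.castSucc_lt_succ).le

theorem sum_step : 𝓔.wt 0 + ∑ j, step 𝓔 j = 1 := by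
  have h := abel 𝓔.wtX (fun _ => (1 : ℝ)) 𝓔.wtX_last
  simp only [sub_self, mul_zero, Finset.sum_const_zero, add_zero, mul_one, wtX_zero] at h
  exact h.symm

/-- The parabolic polynomial as a combination of the pieces with nonnegative coefficients. -/
theorem parPoly_eq (PX : Fin (𝓔.l + 2) → ℚ[X]) :
    W4swparbununimod.parPoly 𝓔 PX =
      C (𝓔.wt 0) * rpoly (PX 0) + ∑ j, C (step 𝓔 j) * rpoly (PX j.succ) := by
  have h := abel (fun i => C (𝓔.wtX i)) (fun i => rpoly (PX i)) (by rw [ParSh.Str.wtX_last, map_one])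
  simp only [wtX_zero, ← map_sub] at h
  rw [← h, W4swparbununimod.parPoly]
  simp only [ParSh.Str.wtX_castSucc]

theorem parSum_eq (f : 𝒞 → ℝ) :
    𝓔.parSum f = 𝓔.wt 0 * f ((𝓔.pieceX 0 : Subobject E) : 𝒞) +
      ∑ j, step 𝓔 j * f ((𝓔.pieceX j.succ : Subobject E) : 𝒞) := by
  have h := abel 𝓔.wtX (fun i => f ((𝓔.pieceX i : Subobject E) : 𝒞)) 𝓔.wtX_last
  simp only [ParSh.Str.pieceX_last, ParSh.Str.pieceX_castSucc, ParSh.Str.wtX_castSucc, wtX_zero] at h
  rw [ParSh.Str.parSum, h]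
  simp only [step, ParSh.Str.wtX_castSucc]

/-- In terms of the quotients. -/
theorem parPoly_eq_sub {P : ℚ[X]} {PX H : Fin (𝓔.l + 2) → ℚ[X]} (h : ∀ j, H j = P - PX j)
    (h0 : H 0 = 0) :
    W4swparbununimod.parPoly 𝓔 PX = rpoly P - ∑ j, C (step 𝓔 j) * rpoly (H j.succ) := by
  have hP : PX 0 = P := by rw [h, sub_eq_zero] at h0; exact h0.symm
  have h1 : (C (𝓔.wt 0) : ℝ[X]) + ∑ j, C (step 𝓔 j) = 1 := by
    rw [← map_sum, ← map_add, sum_step, map_one]
  rw [parPoly_eq, hP]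
  simp only [h, Polynomial.map_sub, mul_sub, Finset.sum_sub_distrib, ← Finset.sum_mul]
  linear_combination (rpoly P) * h1

theorem parPolyOne_coeff (d : ℕ) (Q : ℚ[X]) (QH H : Fin (𝓔.l + 2) → ℚ[X]) (n : ℕ) :
    (W4swparbununimod.parPolyOne 𝓔 d Q QH H).coeff n = (Q.coeff n : ℝ) -
      ∑ j : Fin (𝓔.l + 1), step 𝓔 j *
        ((StabCat.alpha (d - 1) (QH j.succ) / StabCat.alpha (d - 1) (H j.succ) : ℚ) : ℝ) *
          ((H j.succ).coeff n : ℝ) := by
  simp only [W4swparbununimod.parPolyOne, coeff_sub, coeff_map, finsetSum_coeff, coeff_C_mul,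
    Rat.coe_castHom]

theorem parPolyOne_eval (d : ℕ) (Q : ℚ[X]) (QH H : Fin (𝓔.l + 2) → ℚ[X]) (m : ℕ) :
    (W4swparbununimod.parPolyOne 𝓔 d Q QH H).eval (m : ℝ) = ((Q.eval (m : ℚ) : ℚ) : ℝ) -
      ∑ j : Fin (𝓔.l + 1), step 𝓔 j *
        ((StabCat.alpha (d - 1) (QH j.succ) / StabCat.alpha (d - 1) (H j.succ) : ℚ) : ℝ) *
          (((H j.succ).eval (m : ℚ) : ℚ) : ℝ) := by
  simp only [W4swparbununimod.parPolyOne, eval_sub, eval_finsetSum, eval_mul, eval_C, rpoly_eval]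

end Str

end Groth.Agent.Lib.ParPoly.Asymp
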