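import Groth.Agent.Lib.ParPoly.Asymp
import Groth.Agent.Lib.ShStab.Saturation
import Groth.Agent.Lib.ParBun.Exact
import Groth.Agent.Lib.CurveBundle.ResD
import Groth.Agent.Lib.SurfInt.Effective
import Groth.Agent.Lib.Modules.SupportOps

/-!
# Hilbert polynomials along a filtration supported on a divisor
-/

set_option autoImplicit false
set_option linter.style.haveILetI false
set_option linter.unusedSectionVars false
universe u

open CategoryTheory CategoryTheory.Limits AlgebraicGeometry Polynomial Filter StabCat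
open W4swparbununimod (rpoly)

noncomputable section

namespace Groth.Agent.Lib.ParPoly.Basic

open Groth.Agent.Lib Asymp

variable {k : Type u} [Field k] {X : Scheme.{u}} [X.Over (Spec (CommRingCat.of k))]
  [IsProper (X ↘ Spec (CommRingCat.of k))] {L : X.Modules} (hL : CohB1.IsAmple L)
  {E W : X.Modules}

/-- The quotient by the trace of a subobject maps into the quotient. -/
theorem trace (ι : W ⟶ E) [Mono ι] (P : Subobject E) :
    ∃ g : cokernel ((Subobject.pullback ι).obj P).arrow ⟶ cokernel P.arrow, Mono g ∧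
      Nonempty (kernel (ι ≫ cokernel.π P.arrow) ≅ (((Subobject.pullback ι).obj P : Subobject W) : X.Modules)) := by
  have hpb := Subobject.isPullback ι P
  have hw : ((Subobject.pullback ι).obj P).arrow ≫ ι ≫ cokernel.π P.arrow = 0 := by
    rw [← Category.assoc, ← hpb.w, Category.assoc, cokernel.condition, Limits.comp_zero]
  have hlift : ∀ {T : X.Modules} (t : T ⟶ W), t ≫ ι ≫ cokernel.π P.arrow = 0 →
      { l : T ⟶ (((Subobject.pullback ι).obj P : Subobject W) : X.Modules) //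
        l ≫ ((Subobject.pullback ι).obj P).arrow = t } := fun {T} t ht => by
    let s := Abelian.monoLift P.arrow (t ≫ ι) (by rw [Category.assoc]; exact ht)
    exact ⟨hpb.lift s t (Abelian.monoLift_comp _ _ _), hpb.lift_snd _ _ _⟩
  let hk := KernelFork.IsLimit.ofι' ((Subobject.pullback ι).obj P).arrow hw hlift
  let S := ShortComplex.mk ((Subobject.pullback ι).obj P).arrow (ι ≫ cokernel.π P.arrow) hw
  have hS : S.Exact := ShortComplex.exact_of_f_is_kernel _ hk
  exact ⟨cokernel.desc _ _ hw, S.exact_iff_mono_cokernel_desc.1 hS,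
    ⟨(kernelIsKernel _).conePointUniqueUpToIso hk⟩⟩

omit [IsProper (X ↘ Spec (CommRingCat.of k))] [X.Over (Spec (CommRingCat.of k))] in
theorem isCoh_coker {M N : X.Modules} (f : M ⟶ N) (hM : Coh.IsCoh M) (hN : Coh.IsCoh N) :
    Coh.IsCoh (cokernel f) :=
  CohBasics.Closure.isCoh_cokernel f hM.1 hN

/-- The quotient of the induced structure inside the quotient. -/
theorem induced_quot (𝓔 : ParSh.Str E) (ι : W ⟶ E) [Mono ι] (j : Fin (𝓔.l + 2)) :
    ∃ g : cokernel ((𝓔.induced ι).pieceX j).arrow ⟶ cokernel (𝓔.pieceX j).arrow, Mono g := by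
  rw [ParBun.Exact.induced_pieceX]
  obtain ⟨g, hg, -⟩ := trace ι (𝓔.pieceX j)
  exact ⟨g, hg⟩

include hL

include k in
/-- The trace of a coherent subobject is coherent. -/
theorem isCoh_induced (𝓔 : ParSh.Str E) (hE : Coh.IsCoh E)
    (hcoh : ∀ j, Coh.IsCoh ((𝓔.pieceX j : Subobject E) : X.Modules)) (ι : W ⟶ E) [Mono ι]
    (hW : Coh.IsCoh W) (j : Fin (𝓔.l + 2)) :
    Coh.IsCoh (((𝓔.induced ι).pieceX j : Subobject W) : X.Modules) := by
  haveI := Curves.GlobalSections.isNoetherian_of_proper k X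
  rw [ParBun.Exact.induced_pieceX]
  obtain ⟨g, -, ⟨e⟩⟩ := trace ι (𝓔.pieceX j)
  exact CohBasics.Closure.isCoh_of_iso e
    (CohBasics.Closure.isCoh_kernel _ hW (isCoh_coker _ (hcoh j) hE).1)

/-- The Hilbert polynomial of a quotient. -/
theorem quot_eq {M N : X.Modules} (f : M ⟶ N) [Mono f] (hM : Coh.IsCoh M) (hN : Coh.IsCoh N)
    {A B H : ℚ[X]} (hA : ShStab.IsHilbPoly k X L N A) (hB : ShStab.IsHilbPoly k X L M B)
    (hH : ShStab.IsHilbPoly k X L (cokernel f) H) : H = A - B := by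
  haveI := Curves.GlobalSections.isNoetherian_of_proper k X
  rw [← ShStab.SubLattice.hp_eq k L hA, ← ShStab.SubLattice.hp_eq k L hB,
    ← ShStab.SubLattice.hp_eq k L hH]
  exact ShStab.SubLattice.hp_cokernel k hL f hM hN

theorem exists_poly {G : X.Modules} (hG : Coh.IsCoh G) : ∃ P, ShStab.IsHilbPoly k X L G P :=
  ⟨_, ShStab.SubLattice.isHilbPoly_hp k hL hG⟩

/-- The Hilbert polynomial is eventually nonnegative. -/
theorem eventually_nonneg {G : X.Modules} (hG : Coh.IsCoh G) {P : ℚ[X]}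
    (hP : ShStab.IsHilbPoly k X L G P) : ∀ᶠ m : ℕ in atTop, 0 ≤ P.eval (m : ℚ) := by
  haveI := Curves.GlobalSections.isNoetherian_of_proper k X
  have h : StabCat.PolyLE 0 P := by
    rw [ShStab.PolyOrder.polyLE_iff, sub_zero]
    by_cases h0 : IsZero G
    · simp [ShStab.HilbPoly.eq_zero_of_isZero hP h0]
    · rw [← ShStab.SubLattice.hp_eq k L hP]
      exact (ShStab.Interval.lc_pos hL hG h0).le
  obtain ⟨N, hN⟩ := h
  exact eventually_atTop.2 ⟨N, fun m hm => by simpa using hN m hm⟩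

/-- Hilbert polynomials of submodules are eventually smaller. -/
theorem eventually_le {M N : X.Modules} (f : M ⟶ N) [Mono f] (hM : Coh.IsCoh M) (hN : Coh.IsCoh N)
    {A B : ℚ[X]} (hA : ShStab.IsHilbPoly k X L M A) (hB : ShStab.IsHilbPoly k X L N B) :
    ∀ᶠ m : ℕ in atTop, A.eval (m : ℚ) ≤ B.eval (m : ℚ) := by
  obtain ⟨H, hH⟩ := exists_poly (k := k) hL (isCoh_coker f hM hN)
  refine (eventually_nonneg hL (isCoh_coker f hM hN) hH).mono fun m hm => ?_
  rw [quot_eq hL f hM hN hB hA hH, eval_sub] at hm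
  linarith

/-- Degree and coefficients for a support of dimension below `d`. -/
theorem deg_bound {G : X.Modules} (hG : Coh.IsCoh G) {d : ℕ}
    (hdim : topologicalKrullDim ↥(CohB1.support G) < (d : WithBot ℕ∞)) {H : ℚ[X]}
    (hH : ShStab.IsHilbPoly k X L G H) :
    (∀ n, d ≤ n → H.coeff n = 0) ∧ H.natDegree ≤ d - 1 ∧ 0 ≤ H.coeff (d - 1) := by
  by_cases h0 : IsZero G
  · simp [ShStab.HilbPoly.eq_zero_of_isZero hH h0]
  obtain ⟨D, hD⟩ := ShStab.HilbPoly.exists_dim k hG h0
  obtain ⟨h1, h2⟩ := ShStab.HilbPoly.spec hL hG h0 hH hD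
  rw [hD] at hdim
  have hDd : D < d := by exact_mod_cast hdim
  refine ⟨fun n hn => coeff_eq_zero_of_natDegree_lt (by omega), by omega, ?_⟩
  rcases eq_or_ne D (d - 1) with e | e
  · rw [← e, ← h1]
    exact h2.le
  · rw [coeff_eq_zero_of_natDegree_lt (by omega)]

/-- The degree of the polynomial of a pure module and of its submodules. -/
theorem deg_pure {d : ℕ} (hpure : ShStab.IsPure X E d) (ι : W ⟶ E) [Mono ι] (hW : Coh.IsCoh W)
    {Q : ℚ[X]} (hQ : ShStab.IsHilbPoly k X L W Q) :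
    Q.natDegree ≤ d ∧ (¬ IsZero W → 0 < alpha d Q) := by
  rw [← ShStab.SubLattice.hp_eq k L hQ]
  exact ⟨ShStab.Basics.natDegree_le_of_pure hL hpure ι hW,
    fun h0 => ShStab.Basics.alpha_pos_of_pure hL hpure ι hW h0⟩

variable (𝓔 : ParSh.Str E) (hE : Coh.IsCoh E)
  (hcoh : ∀ j, Coh.IsCoh ((𝓔.pieceX j : Subobject E) : X.Modules))

include hE hcoh in
/-- Pieces and quotients. -/
theorem piece_eq {P : ℚ[X]} (hP : ShStab.IsHilbPoly k X L E P) {PX H : Fin (𝓔.l + 2) → ℚ[X]}
    (hPX : ∀ j, ShStab.IsHilbPoly k X L ((𝓔.pieceX j : Subobject E) : X.Modules) (PX j))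
    (hH : ∀ j, ShStab.IsHilbPoly k X L (cokernel (𝓔.pieceX j).arrow) (H j)) (j : Fin (𝓔.l + 2)) :
    H j = P - PX j :=
  quot_eq hL _ (hcoh j) hE hP (hPX j) (hH j)

theorem quot_zero {H : Fin (𝓔.l + 2) → ℚ[X]}
    (hH : ∀ j, ShStab.IsHilbPoly k X L (cokernel (𝓔.pieceX j).arrow) (H j)) : H 0 = 0 := by
  refine ShStab.HilbPoly.eq_zero_of_isZero (hH 0) ?_
  haveI : IsIso (𝓔.pieceX 0).arrow := by rw [pieceX_zero]; infer_instance
  exact (IsZero.iff_id_eq_zero _).2 (by rw [← cancel_epi (cokernel.π _), cokernel.π_of_epi]; simp)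

include hcoh in
/-- The zeroth piece. -/
theorem piece_zero_eq {P : ℚ[X]} (hP : ShStab.IsHilbPoly k X L E P) {PX : Fin (𝓔.l + 2) → ℚ[X]}
    (hPX : ∀ j, ShStab.IsHilbPoly k X L ((𝓔.pieceX j : Subobject E) : X.Modules) (PX j)) : PX 0 = P := by
  haveI : IsIso (𝓔.pieceX 0).arrow := by rw [pieceX_zero]; infer_instance
  rw [← ShStab.SubLattice.hp_eq k L (hPX 0), ← ShStab.SubLattice.hp_eq k L hP]
  exact (ShStab.SubLattice.hp_iso k hL (asIso (𝓔.pieceX 0).arrow) (hcoh 0)).symm

include k hE in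
/-- The quotients are supported on the divisor. -/
theorem dim_quot {I : X.IdealSheafData} (h𝓔 : 𝓔.Along I) {d : ℕ}
    (hsupp : topologicalKrullDim ↥(CohB1.support E ∩ (I.support : Set X)) < (d : WithBot ℕ∞))
    {G : X.Modules} (j : Fin (𝓔.l + 2)) (g : G ⟶ cokernel (𝓔.pieceX j).arrow) [Mono g] :
    topologicalKrullDim ↥(CohB1.support G) < (d : WithBot ℕ∞) := by
  haveI := Curves.GlobalSections.isNoetherian_of_proper k X
  haveI := hE.2
  haveI := (SurfInt.Effective.isCoh_quotMod I).2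
  obtain ⟨hex, hepi⟩ := CurveBundle.ResD.exact_tensor E (ClSub.Quot.idealSeq_shortExact I)
  haveI := hepi
  let t : CohB1.tensorMod E (_root_.ClSub.idealMod I) ⟶ CohB1.tensorMod E (Coh.structureModule X) :=
    TensorMod.Basic.tmap (𝟙 E) (_root_.ClSub.idealModι I)
  let q : CohB1.tensorMod E (Coh.structureModule X) ⟶ CohB1.tensorMod E (_root_.ClSub.quotMod I) :=
    TensorMod.Basic.tmap (𝟙 E) (_root_.ClSub.toSubscheme I)
  haveI : Epi q := hepi
  have hzero : t ≫ (SecTwist.unitorR E).hom ≫ cokernel.π (𝓔.pieceX j).arrow = 0 := by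
    have h1 : ParSh.twistMap I E = t ≫ (SecTwist.unitorR E).hom := by
      rw [ParSh.twistMap, CurveBundle.ResD.tensorMap_eq]
    rw [← Category.assoc, ← h1]
    have h2 : (imageSubobject (ParSh.twistMap I E)).Factors (ParSh.twistMap I E) :=
      (Subobject.factors_iff _ _).2 ⟨factorThruImageSubobject _, imageSubobject_arrow_comp _⟩
    have h3 : (𝓔.pieceX j).Factors (ParSh.twistMap I E) :=
      Subobject.factors_of_le _ ((le_of_eq h𝓔.symm).trans (𝓔.bot_le_pieceX j)) h2
    rw [← Subobject.factorThru_arrow _ _ h3, Category.assoc, cokernel.condition, Limits.comp_zero]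
  let c : CohB1.tensorMod E (ClSub.quotMod I) ⟶ cokernel (𝓔.pieceX j).arrow :=
    hex.gIsCokernel.desc (CokernelCofork.ofπ _ hzero)
  have hc : q ≫ c = (SecTwist.unitorR E).hom ≫ cokernel.π (𝓔.pieceX j).arrow :=
    hex.gIsCokernel.fac (CokernelCofork.ofπ _ hzero) WalkingParallelPair.one
  haveI : Epi c := by
    haveI : Epi (q ≫ c) := hc ▸ epi_comp _ _
    exact epi_of_epi q c
  refine lt_of_le_of_lt (Topology.IsEmbedding.inclusion ?_).isInducing.topologicalKrullDim_le hsupp
  refine (Modules.Support.support_subset_of_mono g).trans ((Modules.Support.support_subset_of_epi c).trans ?_)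
  rw [Modules.SupportOps.support_tensorMod, ClSub.Quot.support_quotMod]

open Groth.Agent.Lib.ShStab.SubLattice Groth.Agent.Lib.ShStab.Interval Groth.Agent.Lib.ShStab.PolyOrder in
include hE in
/-- Saturation, with the inclusion. -/
theorem exists_saturation {d : ℕ} (hpu : ShStab.IsPure X E d) (ι : W ⟶ E) [Mono ι] (hW : Coh.IsCoh W) :
    ∃ (V : X.Modules) (j : V ⟶ E) (g : W ⟶ V), Mono j ∧ g ≫ j = ι ∧ Coh.IsCoh V ∧
      ShStab.IsPure X (cokernel j) d ∧
      alpha d (ShStab.SubLattice.hp k L V) = alpha d (ShStab.SubLattice.hp k L W) := by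
  haveI := Curves.GlobalSections.isNoetherian_of_proper k X
  let S := ShStab.HN.psys (k := k) (hE := hE) hL hpu
  let f : ShStab.SubLattice.CSub hE :=
    ⟨Subobject.mk ι, ShStab.SubLattice.isCoh_iso (Subobject.underlyingIso ι).symm hW⟩
  obtain ⟨V, ⟨hfV, hV⟩, hmax⟩ := (wellFounded_gt (α := ShStab.SubLattice.CSub hE)).has_min
    {V | f ≤ V ∧ alpha d (S.q f V) = 0} ⟨f, le_rfl, by simp [ShStab.Sys0.q_self, alpha]⟩
  have hpure : S.Pure V ⊤ := fun c hc _ => by
    refine lt_of_le_of_ne (S.alpha_nonneg hc.le) fun h0 => hmax c ⟨hfV.trans hc.le, ?_⟩ hc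
    rw [← S.q_add f V c, ShStab.PolyOrder.alpha_add, hV, ← h0, add_zero]
  have hle : V ≤ ⊤ := le_top
  have hp' := (ShStab.Interval.pure_iff (k := k) hL (hdeg_of_pure hL hpu) hle).2 hpure
  refine ⟨_, V.1.arrow, (Subobject.underlyingIso ι).inv ≫ Subobject.ofLE f.1 V.1 hfV, inferInstance,
    ?_, V.2, ?_, ?_⟩
  · rw [Category.assoc, Subobject.ofLE_arrow]
    exact Subobject.underlyingIso_arrow ι
  · let e : cokernel (Subobject.ofLE V.1 (⊤ : Subobject E) le_top) ≅ cokernel V.1.arrow :=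
      cokernel.mapIso _ _ (Iso.refl _) (asIso (⊤ : Subobject E).arrow) (by simp)
    intro G κ hκ hG h0
    haveI := hκ
    exact hp' G (κ ≫ e.inv) inferInstance hG h0
  · have : S.q f V = ShStab.SubLattice.hp k L (V.1 : X.Modules) - ShStab.SubLattice.hp k L W := by
      show _ - ShStab.SubLattice.hp k L (f.1 : X.Modules) = _
      rw [ShStab.SubLattice.hp_iso k hL (Subobject.underlyingIso ι).symm hW]
      rfl
    rw [this, ShStab.PolyOrder.alpha_sub, sub_eq_zero] at hV
    exact hV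

end Groth.Agent.Lib.ParPoly.Basic
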