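import Groth.Agent.Lib.ParPoly.Stab
import Groth.Agent.Lib.ParBun.Proper
import Groth.Agent.Lib.ParBun.Stable
import Groth.Agent.Lib.ShStab.Abelian

/-!
# Equality cases for parabolic Hilbert functions
-/

set_option autoImplicit false
set_option linter.style.haveILetI false
set_option linter.unusedSectionVars false
universe u

open CategoryTheory CategoryTheory.Limits AlgebraicGeometry Filter StabCat

noncomputable section

namespace Groth.Agent.Lib.ParPoly.KerImage

open Groth.Agent.Lib Asymp Basic Stab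

variable {k : Type u} [Field k] {X : Scheme.{u}} [X.Over (Spec (CommRingCat.of k))]
  [IsProper (X ↘ Spec (CommRingCat.of k))] {L : X.Modules} (hL : CohB1.IsAmple L)

/-- The Hilbert function of a module, as a real number. -/
abbrev χ (k : Type u) [Field k] [X.Over (Spec (CommRingCat.of k))] (L G : X.Modules) (m : ℕ) : ℝ :=
  (Curv2.euler k X (ShStab.twist X L G m) : ℝ)

theorem χ_eq {G : X.Modules} {P : Polynomial ℚ} (hP : ShStab.IsHilbPoly k X L G P) (m : ℕ) :
    χ k L G m = ((P.eval (m : ℚ) : ℚ) : ℝ) := by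
  rw [← hP m, Rat.cast_intCast]

theorem parHilb_eq {E : X.Modules} (𝓔 : ParSh.Str E) (m : ℕ) :
    𝓔.parHilb k X L m = 𝓔.wt 0 * χ k L ((𝓔.pieceX 0 : Subobject E) : X.Modules) m +
      ∑ j, step 𝓔 j * χ k L ((𝓔.pieceX j.succ : Subobject E) : X.Modules) m := by
  rw [ParSh.Str.parHilb, parSum_eq]

/-- The value of the parabolic polynomial. -/
theorem parPoly_eval {E : X.Modules} (𝓔 : ParSh.Str E) {PX : Fin (𝓔.l + 2) → Polynomial ℚ}
    (hPX : ∀ j, ShStab.IsHilbPoly k X L ((𝓔.pieceX j : Subobject E) : X.Modules) (PX j)) (m : ℕ) :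
    (W4swparbununimod.parPoly 𝓔 PX).eval (m : ℝ) = 𝓔.parHilb k X L m := by
  rw [parHilb_eq, parPoly_eq]
  simp only [Polynomial.eval_add, Polynomial.eval_finsetSum, Polynomial.eval_mul, Polynomial.eval_C,
    rpoly_eval, χ_eq (hPX _)]

include hL

/-- A monomorphism with eventually equal Hilbert functions is an isomorphism. -/
theorem isIso_of_eventually {M N : X.Modules} (f : M ⟶ N) [Mono f] (hM : Coh.IsCoh M)
    (hN : Coh.IsCoh N) (h : ∀ᶠ m : ℕ in atTop, χ k L N m ≤ χ k L M m) : IsIso f := by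
  haveI := Curves.GlobalSections.isNoetherian_of_proper k X
  obtain ⟨A, hA⟩ := exists_poly (k := k) hL hM
  obtain ⟨B, hB⟩ := exists_poly (k := k) hL hN
  obtain ⟨C, hC⟩ := exists_poly (k := k) hL (isCoh_coker f hM hN)
  have e := quot_eq hL f hM hN hB hA hC
  have h2 : StabCat.PolyLE C 0 := by
    obtain ⟨n, hn⟩ := eventually_atTop.1 h
    refine ⟨n, fun m hm => ?_⟩
    have h3 := hn m hm
    rw [χ_eq hA, χ_eq hB, Rat.cast_le] at h3
    rw [e, Polynomial.eval_sub, Polynomial.eval_zero]
    linarith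
  have h4 : StabCat.PolyLE 0 C := by
    obtain ⟨n, hn⟩ := eventually_atTop.1 (eventually_nonneg hL (isCoh_coker f hM hN) hC)
    exact ⟨n, fun m hm => by simpa using hn m hm⟩
  have h5 : IsZero (cokernel f) := by
    rw [ShStab.Interval.isZero_iff (k := k) hL (isCoh_coker f hM hN), ShStab.SubLattice.hp_eq k L hC]
    exact (ShStab.PolyOrder.polyLE_antisymm h2 h4)
  haveI : Epi f := Abelian.epi_of_cokernel_π_eq_zero f (h5.eq_of_tgt _ _)
  exact isIso_of_mono_of_epi f

/-- Hilbert functions of submodules are eventually smaller. -/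
theorem χ_le {M N : X.Modules} (f : M ⟶ N) [Mono f] (hM : Coh.IsCoh M) (hN : Coh.IsCoh N) :
    ∀ᶠ m : ℕ in atTop, χ k L M m ≤ χ k L N m := by
  obtain ⟨A, hA⟩ := exists_poly (k := k) hL hM
  obtain ⟨B, hB⟩ := exists_poly (k := k) hL hN
  refine (eventually_le hL f hM hN hA hB).mono fun m hm => ?_
  rw [χ_eq hA, χ_eq hB, Rat.cast_le]
  exact hm

/-- Two structures with the same weights, one inside the other and with parabolic Hilbert functions
in the opposite order, have the same real filtration. -/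
theorem compare {V : X.Modules} (A B : ParSh.Str V) (hw : Set.range B.wt = Set.range A.wt)
    (hA : ∀ j, Coh.IsCoh ((A.pieceX j : Subobject V) : X.Modules))
    (hB : ∀ j, Coh.IsCoh ((B.pieceX j : Subobject V) : X.Modules))
    (hm : ∀ a : ℝ, 0 ≤ a → a ≤ 1 →
      ∃ m : ((A.at a : Subobject V) : X.Modules) ⟶ ((B.at a : Subobject V) : X.Modules),
        Mono m ∧ m ≫ (B.at a).arrow = (A.at a).arrow) :
    (∀ᶠ m : ℕ in atTop, A.parHilb k X L m ≤ B.parHilb k X L m) ∧
      ((∀ᶠ m : ℕ in atTop, B.parHilb k X L m ≤ A.parHilb k X L m) →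
        ∀ a : ℝ, A.at a = B.at a) := by
  obtain ⟨l', piece', bot', wt', h1, h2, h3, h4, h5, h6⟩ := B
  have hl : l' = A.l := by
    have e1 := Set.ncard_range_of_injective h4.injective
    have e2 := Set.ncard_range_of_injective A.wt_strictMono.injective
    dsimp only at hw
    rw [hw, e2] at e1
    simpa using e1.symm
  subst hl
  obtain rfl : wt' = A.wt := (StrictMono.range_inj h4 A.wt_strictMono).1 hw
  set B : ParSh.Str V := ⟨A.l, piece', bot', A.wt, h1, h2, h3, h4, h5, h6⟩ with hBdef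
  have hat : ∀ (S : ParSh.Str V) (j : Fin (S.l + 2)), S.at (S.wtX j) = S.pieceX j := by
    intro S j
    induction j using Fin.lastCases with
    | last =>
      rw [ParSh.Str.wtX_last, ParSh.Str.pieceX_last]
      exact S.at_eq_bot fun i => (S.wt_strictMono.monotone (Fin.le_last i)).trans_lt S.wt_lt_one
    | cast i =>
      rw [ParSh.Str.wtX_castSucc, ParSh.Str.pieceX_castSucc]
      exact S.at_eq_piece i le_rfl fun j hj => S.wt_strictMono hj
  have hwX : B.wtX = A.wtX := rfl
  have hle : ∀ j : Fin (A.l + 2), A.pieceX j ≤ B.pieceX j := fun j => by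
    have hj0 : 0 ≤ A.wtX j ∧ A.wtX j ≤ 1 := by
      induction j using Fin.lastCases with
      | last => simp
      | cast i =>
        rw [ParSh.Str.wtX_castSucc]
        exact ⟨A.wt_nonneg.trans (A.wt_strictMono.monotone (Fin.zero_le i)),
          (A.wt_strictMono.monotone (Fin.le_last i)).trans A.wt_lt_one.le⟩
    obtain ⟨m, -, hm⟩ := hm (A.wtX j) hj0.1 hj0.2
    have hBj : B.at (A.wtX j) = B.pieceX j := hat B j
    rw [← hat A j, ← hBj]
    exact Subobject.le_of_comm m hm
  have key : ∀ᶠ m : ℕ in atTop, ∀ j : Fin (A.l + 2),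
      χ k L ((A.pieceX j : Subobject V) : X.Modules) m ≤ χ k L ((B.pieceX j : Subobject V) : X.Modules) m :=
    eventually_all.2 fun j => χ_le hL (Subobject.ofLE _ _ (hle j)) (hA j) (hB j)
  have eB : ∀ m, B.parHilb k X L m = A.wt 0 * χ k L ((B.pieceX 0 : Subobject V) : X.Modules) m +
      ∑ j : Fin (A.l + 1), step A j * χ k L ((B.pieceX j.succ : Subobject V) : X.Modules) m :=
    fun m => parHilb_eq B m
  have e0 : B.pieceX 0 = A.pieceX 0 := (pieceX_zero B).trans (pieceX_zero A).symm
  refine ⟨key.mono fun m hm => ?_, fun h a => ?_⟩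
  · rw [parHilb_eq A m, eB m]
    exact add_le_add (mul_le_mul_of_nonneg_left (hm 0) A.wt_nonneg)
      (Finset.sum_le_sum fun j _ => mul_le_mul_of_nonneg_left (hm _) (step_nonneg A j))
  have hpos : ∀ j, 0 < step A j := fun j => by
    rw [step, sub_pos, ParSh.Str.wtX_castSucc]
    induction j using Fin.lastCases with
    | last => rw [Fin.succ_last, ParSh.Str.wtX_last]; exact A.wt_lt_one
    | cast i =>
      rw [Fin.succ_castSucc, ParSh.Str.wtX_castSucc]
      exact A.wt_strictMono Fin.castSucc_lt_succ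
  have heq : ∀ j : Fin (A.l + 2), A.pieceX j = B.pieceX j := by
    intro j
    induction j using Fin.cases with
    | zero => exact e0.symm
    | succ i =>
      haveI : IsIso (Subobject.ofLE _ _ (hle i.succ)) := isIso_of_eventually hL _ (hA _) (hB _)
        ((h.and key).mono fun m hm => by
          obtain ⟨hs, hm⟩ := hm
          rw [parHilb_eq A m, eB m, e0, add_le_add_iff_left] at hs
          have h0 : ∀ j ∈ Finset.univ, step A j * χ k L ((A.pieceX j.succ : Subobject V) : X.Modules) m =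
              step A j * χ k L ((B.pieceX j.succ : Subobject V) : X.Modules) m :=
            (Finset.sum_eq_sum_iff_of_le fun j _ => mul_le_mul_of_nonneg_left (hm _) (step_nonneg A j)).1
              (le_antisymm (Finset.sum_le_sum fun j _ =>
                mul_le_mul_of_nonneg_left (hm _) (step_nonneg A j)) hs)
          exact (mul_left_cancel₀ (hpos i).ne' (h0 i (Finset.mem_univ _))).ge)
      refine le_antisymm (hle _) (Subobject.le_of_comm (inv (Subobject.ofLE _ _ (hle i.succ))) ?_)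
      rw [IsIso.inv_comp_eq, Subobject.ofLE_arrow]
  obtain ⟨j, hj, hji⟩ := ParBun.Integral.exists_at A a
  obtain ⟨j', hj', hji'⟩ := ParBun.Integral.exists_at B a
  have ej : j' = j := by
    refine le_antisymm ?_ ?_
    · induction j using Fin.lastCases with
      | last => exact Fin.le_last _
      | cast x => exact (hji' x).mp ((hji x).mpr le_rfl)
    · induction j' using Fin.lastCases with
      | last => exact Fin.le_last _
      | cast x => exact (hji x).mp ((hji' x).mpr le_rfl)
  rw [hj, hj', ej]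
  exact heq j

include k in
/-- The pieces of the coinduced structure are coherent. -/
theorem isCoh_coinduced {E V : X.Modules} (𝓔 : ParSh.Str E) (q : E ⟶ V) [Epi q]
    (hcoh : ∀ j, Coh.IsCoh ((𝓔.pieceX j : Subobject E) : X.Modules)) (hV : Coh.IsCoh V)
    (j : Fin (𝓔.l + 2)) : Coh.IsCoh (((𝓔.coinduced q).pieceX j : Subobject V) : X.Modules) := by
  haveI := Curves.GlobalSections.isNoetherian_of_proper k X
  rw [ParBun.Exact.coinduced_pieceX]
  exact CohBasics.Closure.isCoh_of_iso
    (Abelian.imageIsoImage _ ≪≫ (imageSubobjectIso _).symm)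
    (CohBasics.Closure.isCoh_image ((𝓔.pieceX j).arrow ≫ q) (hcoh j).1 hV)

/-- The test in a semistable module, for arbitrary submodules. -/
theorem test {E W : X.Modules} (hE : Coh.IsCoh E) (𝓔 : ParSh.Str E)
    (hcoh : ∀ j, Coh.IsCoh ((𝓔.pieceX j : Subobject E) : X.Modules)) {d : ℕ}
    {P : Polynomial ℚ} {PX : Fin (𝓔.l + 2) → Polynomial ℚ}
    (hPX : ∀ j, ShStab.IsHilbPoly k X L ((𝓔.pieceX j : Subobject E) : X.Modules) (PX j))
    (hss : (∀ (W : X.Modules) (ι : W ⟶ E), Mono ι → Coh.IsCoh W → ¬ IsZero W → ShStab.IsPure X (cokernel ι) d →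
        ∀ (Q : Polynomial ℚ) (QX : Fin (𝓔.l + 2) → Polynomial ℚ), ShStab.IsHilbPoly k X L W Q →
          (∀ j, ShStab.IsHilbPoly k X L (((𝓔.induced ι).pieceX j : Subobject W) : X.Modules) (QX j)) →
          ∃ M : ℕ, ∀ m : ℕ, M ≤ m →
            (W4swparbununimod.parPoly (𝓔.induced ι) QX).eval (m : ℝ) * (StabCat.alpha d P : ℝ) ≤
              (W4swparbununimod.parPoly 𝓔 PX).eval (m : ℝ) * (StabCat.alpha d Q : ℝ)))
    (ι : W ⟶ E) [Mono ι] (hW : Coh.IsCoh W) (hpure : ShStab.IsPure X (cokernel ι) d)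
    {Q : Polynomial ℚ} (hQ : ShStab.IsHilbPoly k X L W Q) :
    ∀ᶠ m : ℕ in atTop, (𝓔.induced ι).parHilb k X L m * (StabCat.alpha d P : ℝ) ≤
      𝓔.parHilb k X L m * (StabCat.alpha d Q : ℝ) := by
  obtain ⟨QX, hQX⟩ : ∃ QX : Fin (𝓔.l + 2) → Polynomial ℚ,
      ∀ j, ShStab.IsHilbPoly k X L (((𝓔.induced ι).pieceX j : Subobject W) : X.Modules) (QX j) :=
    Classical.skolem.1 fun j => exists_poly (k := k) hL (isCoh_induced (k := k) hL 𝓔 hE hcoh ι hW j)
  by_cases h0 : IsZero W
  · refine Eventually.of_forall fun m => ?_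
    have hz : ∀ j : Fin ((𝓔.induced ι).l + 2), QX j = 0 := fun j =>
      ShStab.HilbPoly.eq_zero_of_isZero (hQX j) (IsZero.of_mono ((𝓔.induced ι).pieceX j).arrow h0)
    rw [← parPoly_eval (𝓔.induced ι) hQX m,
      show W4swparbununimod.parPoly (𝓔.induced ι) QX = _ from parPoly_eq (𝓔.induced ι) QX,
      ShStab.HilbPoly.eq_zero_of_isZero hQ h0]
    simp [hz, StabCat.alpha]
  obtain ⟨M, hM⟩ := hss W ι inferInstance hW h0 hpure Q QX hQ hQX
  refine eventually_atTop.2 ⟨M, fun m hm => ?_⟩
  rw [← parPoly_eval 𝓔 hPX m, ← parPoly_eval (𝓔.induced ι) hQX m]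
  exact hM m hm

end Groth.Agent.Lib.ParPoly.KerImage
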