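import Groth.Agent.Lib.ParPoly.Basic

/-!
# Comparison of the parabolic Hilbert polynomials of a submodule
-/

set_option autoImplicit false
set_option linter.style.haveILetI false
set_option linter.unusedSectionVars false
universe u

open CategoryTheory CategoryTheory.Limits AlgebraicGeometry Filter StabCat
open W4swparbununimod (rpoly parPoly parPolyOne)

noncomputable section

namespace Groth.Agent.Lib.ParPoly.Stab

open Groth.Agent.Lib Asymp Basic

variable {k : Type u} [Field k] {X : Scheme.{u}} [X.Over (Spec (CommRingCat.of k))]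
  [IsProper (X ↘ Spec (CommRingCat.of k))] {L : X.Modules} (hL : CohB1.IsAmple L)
  {E W : X.Modules} (hE : Coh.IsCoh E) (𝓔 : ParSh.Str E)
  (hcoh : ∀ j, Coh.IsCoh ((𝓔.pieceX j : Subobject E) : X.Modules))
  {I : X.IdealSheafData} (h𝓔 : 𝓔.Along I) {d : ℕ}
  (hsupp : topologicalKrullDim ↥(CohB1.support E ∩ (I.support : Set X)) < (d : WithBot ℕ∞))
  {H : Fin (𝓔.l + 2) → Polynomial ℚ}
  (hH : ∀ j, ShStab.IsHilbPoly k X L (cokernel (𝓔.pieceX j).arrow) (H j))

include hL hE hcoh in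
/-- The parabolic polynomial through the quotients. -/
theorem parPoly_quot {P : Polynomial ℚ} (hP : ShStab.IsHilbPoly k X L E P)
    {PX : Fin (𝓔.l + 2) → Polynomial ℚ}
    (hPX : ∀ j, ShStab.IsHilbPoly k X L ((𝓔.pieceX j : Subobject E) : X.Modules) (PX j))
    {H : Fin (𝓔.l + 2) → Polynomial ℚ}
    (hH : ∀ j, ShStab.IsHilbPoly k X L (cokernel (𝓔.pieceX j).arrow) (H j)) :
    parPoly 𝓔 PX = rpoly P - ∑ j, Polynomial.C (step 𝓔 j) * rpoly (H j.succ) :=
  parPoly_eq_sub 𝓔 (piece_eq hL 𝓔 hE hcoh hP hPX hH) (quot_zero hL 𝓔 hH)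

include hL hE hcoh in
/-- The same for the induced structure. -/
theorem parPoly_induced (ι : W ⟶ E) [Mono ι] (hW : Coh.IsCoh W) {Q : Polynomial ℚ}
    (hQ : ShStab.IsHilbPoly k X L W Q) {QX : Fin (𝓔.l + 2) → Polynomial ℚ}
    (hQX : ∀ j, ShStab.IsHilbPoly k X L (((𝓔.induced ι).pieceX j : Subobject W) : X.Modules) (QX j))
    {QH : Fin (𝓔.l + 2) → Polynomial ℚ}
    (hQH : ∀ j, ShStab.IsHilbPoly k X L (cokernel ((𝓔.induced ι).pieceX j).arrow) (QH j)) :
    parPoly (𝓔.induced ι) QX = rpoly Q - ∑ j, Polynomial.C (step 𝓔 j) * rpoly (QH j.succ) :=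
  parPoly_quot hL hW (𝓔.induced ι) (isCoh_induced (k := k) hL 𝓔 hE hcoh ι hW) hQ hQX hQH

include hL hE hcoh h𝓔 hsupp hH in
/-- The quotients of the structure. -/
theorem quot_bound (j : Fin (𝓔.l + 2)) :
    (∀ n, d ≤ n → (H j).coeff n = 0) ∧ (H j).natDegree ≤ d - 1 ∧ 0 ≤ (H j).coeff (d - 1) :=
  deg_bound hL (isCoh_coker _ (hcoh j) hE) (dim_quot (k := k) hL 𝓔 hE h𝓔 hsupp j (𝟙 _)) (hH j)

include hL hE hcoh h𝓔 hsupp in
/-- The quotients of the induced structure. -/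
theorem induced_bound (ι : W ⟶ E) [Mono ι] (hW : Coh.IsCoh W) {QH : Fin (𝓔.l + 2) → Polynomial ℚ}
    (hQH : ∀ j, ShStab.IsHilbPoly k X L (cokernel ((𝓔.induced ι).pieceX j).arrow) (QH j))
    (j : Fin (𝓔.l + 2)) :
    (∀ n, d ≤ n → (QH j).coeff n = 0) ∧ (QH j).natDegree ≤ d - 1 ∧ 0 ≤ (QH j).coeff (d - 1) := by
  obtain ⟨g, hg⟩ := induced_quot 𝓔 ι j
  exact deg_bound hL (isCoh_coker _ (isCoh_induced (k := k) hL 𝓔 hE hcoh ι hW j) hW)
    (dim_quot (k := k) hL 𝓔 hE h𝓔 hsupp j g) (hQH j)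

include hL hE hcoh h𝓔 hsupp hH in
/-- The quotient by the bottom has the largest coefficient. -/
theorem coeff_le_last (j : Fin (𝓔.l + 2)) :
    (H j).coeff (d - 1) ≤ (H (Fin.last (𝓔.l + 1))).coeff (d - 1) := by
  obtain ⟨P, hP⟩ := exists_poly (k := k) hL hE
  choose PX hPX using fun i => exists_poly (k := k) hL (hcoh i)
  have hle : 𝓔.pieceX (Fin.last (𝓔.l + 1)) ≤ 𝓔.pieceX j := by
    rw [ParSh.Str.pieceX_last]; exact 𝓔.bot_le_pieceX j
  let A := 𝓔.pieceX (Fin.last (𝓔.l + 1))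
  let B := 𝓔.pieceX j
  have hw : Subobject.ofLE A B hle ≫ B.arrow ≫ cokernel.π A.arrow = 0 := by
    rw [← Category.assoc, Subobject.ofLE_arrow, cokernel.condition]
  have hlift : ∀ {T : X.Modules} (t : T ⟶ (B : X.Modules)), t ≫ B.arrow ≫ cokernel.π A.arrow = 0 →
      { l : T ⟶ (A : X.Modules) // l ≫ Subobject.ofLE A B hle = t } := fun {T} t ht => by
    refine ⟨Abelian.monoLift A.arrow (t ≫ B.arrow) (by rw [Category.assoc]; exact ht), ?_⟩
    rw [← cancel_mono B.arrow, Category.assoc, Subobject.ofLE_arrow, Abelian.monoLift_comp]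
  let S := ShortComplex.mk (Subobject.ofLE A B hle) (B.arrow ≫ cokernel.π A.arrow) hw
  have hS : S.Exact := ShortComplex.exact_of_f_is_kernel _ (KernelFork.IsLimit.ofι' _ hw hlift)
  haveI : Mono (cokernel.desc _ _ hw) := S.exact_iff_mono_cokernel_desc.1 hS
  have hG := isCoh_coker (Subobject.ofLE A B hle) (hcoh _) (hcoh j)
  obtain ⟨R, hR⟩ := exists_poly (k := k) hL hG
  have h := (deg_bound hL hG (dim_quot (k := k) hL 𝓔 hE h𝓔 hsupp (Fin.last (𝓔.l + 1))
    (cokernel.desc _ _ hw)) hR).2.2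
  rw [quot_eq hL _ (hcoh (Fin.last (𝓔.l + 1))) (hcoh j) (hPX j) (hPX (Fin.last (𝓔.l + 1))) hR,
    Polynomial.coeff_sub] at h
  rw [piece_eq hL 𝓔 hE hcoh hP hPX hH, piece_eq hL 𝓔 hE hcoh hP hPX hH, Polynomial.coeff_sub,
    Polynomial.coeff_sub]
  linarith

include hL hE hcoh hH in
/-- With semistable quotients the first modified polynomial is at most the parabolic one. -/
theorem parPolyOne_le (hq : ∀ j : Fin (𝓔.l + 1),
      ShStab.IsSemistable k X L (cokernel (𝓔.pieceX j.succ).arrow) (d - 1))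
    (ι : W ⟶ E) [Mono ι] (hW : Coh.IsCoh W) {Q : Polynomial ℚ} (hQ : ShStab.IsHilbPoly k X L W Q)
    {QX : Fin (𝓔.l + 2) → Polynomial ℚ}
    (hQX : ∀ j, ShStab.IsHilbPoly k X L (((𝓔.induced ι).pieceX j : Subobject W) : X.Modules) (QX j))
    {QH : Fin (𝓔.l + 2) → Polynomial ℚ}
    (hQH : ∀ j, ShStab.IsHilbPoly k X L (cokernel ((𝓔.induced ι).pieceX j).arrow) (QH j)) :
    ∀ᶠ m : ℕ in atTop,
      (parPolyOne 𝓔 d Q QH H).eval (m : ℝ) ≤ (parPoly (𝓔.induced ι) QX).eval (m : ℝ) := by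
  haveI := Curves.GlobalSections.isNoetherian_of_proper k X
  have key : ∀ j : Fin (𝓔.l + 1), ∀ᶠ m : ℕ in atTop, (QH j.succ).eval (m : ℚ) ≤
      alpha (d - 1) (QH j.succ) / alpha (d - 1) (H j.succ) * (H j.succ).eval (m : ℚ) := by
    intro j
    obtain ⟨hC, hC0, hCp, hss⟩ := hq j
    have hpos : 0 < alpha (d - 1) (H j.succ) := (deg_pure hL hCp (𝟙 _) hC (hH j.succ)).2 hC0
    obtain ⟨g, hg⟩ := induced_quot 𝓔 ι j.succ
    have hG := isCoh_coker ((𝓔.induced ι).pieceX j.succ).arrow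
      (isCoh_induced (k := k) hL 𝓔 hE hcoh ι hW j.succ) hW
    by_cases h0 : IsZero (cokernel ((𝓔.induced ι).pieceX j.succ).arrow)
    · refine Eventually.of_forall fun m => ?_
      simp [ShStab.HilbPoly.eq_zero_of_isZero (hQH j.succ) h0, alpha]
    by_cases h1 : IsIso g
    · refine Eventually.of_forall fun m => ?_
      have e : QH j.succ = H j.succ := by
        rw [← ShStab.SubLattice.hp_eq k L (hQH j.succ), ← ShStab.SubLattice.hp_eq k L (hH j.succ)]
        exact (ShStab.SubLattice.hp_iso k hL (asIso g) hG).symm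
      rw [e, div_self hpos.ne', one_mul]
    obtain ⟨N, hN⟩ := hss _ g hg hG h0 h1 _ _ (hQH j.succ) (hH j.succ)
    refine eventually_atTop.2 ⟨N, fun m hm => ?_⟩
    have h := hN m hm
    rw [Polynomial.eval_smul, Polynomial.eval_smul, smul_eq_mul, smul_eq_mul] at h
    rw [div_mul_eq_mul_div, le_div_iff₀ hpos]
    linarith
  refine (eventually_all.2 key).mono fun m hm => ?_
  rw [parPolyOne_eval, parPoly_induced hL hE 𝓔 hcoh ι hW hQ hQX hQH]
  simp only [Polynomial.eval_sub, Polynomial.eval_finsetSum, Polynomial.eval_mul, Polynomial.eval_C,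
    rpoly_eval]
  refine sub_le_sub_left (Finset.sum_le_sum fun j _ => ?_) _
  rw [mul_assoc]
  exact mul_le_mul_of_nonneg_left (by exact_mod_cast hm j) (step_nonneg 𝓔 j)

include hL hE hcoh in
/-- The parabolic polynomial grows with the submodule. -/
theorem parPoly_mono {V : X.Modules} (ι : W ⟶ E) [Mono ι] (j : V ⟶ E) [Mono j] (g : W ⟶ V)
    (hg : g ≫ j = ι) (hW : Coh.IsCoh W) (hV : Coh.IsCoh V) {QX VX : Fin (𝓔.l + 2) → Polynomial ℚ}
    (hQX : ∀ i, ShStab.IsHilbPoly k X L (((𝓔.induced ι).pieceX i : Subobject W) : X.Modules) (QX i))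
    (hVX : ∀ i, ShStab.IsHilbPoly k X L (((𝓔.induced j).pieceX i : Subobject V) : X.Modules) (VX i)) :
    ∀ᶠ m : ℕ in atTop,
      (parPoly (𝓔.induced ι) QX).eval (m : ℝ) ≤ (parPoly (𝓔.induced j) VX).eval (m : ℝ) := by
  haveI : Mono g := mono_of_mono_fac hg
  have key : ∀ i : Fin (𝓔.l + 2), ∀ᶠ m : ℕ in atTop, (QX i).eval (m : ℚ) ≤ (VX i).eval (m : ℚ) := by
    intro i
    have c1 := isCoh_induced (k := k) hL 𝓔 hE hcoh ι hW i
    have c2 := isCoh_induced (k := k) hL 𝓔 hE hcoh j hV i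
    have h1 := hQX i
    have h2 := hVX i
    rw [ParBun.Exact.induced_pieceX] at c1 c2 h1 h2
    let l := (Subobject.isPullback j (𝓔.pieceX i)).lift (Subobject.pullbackπ ι (𝓔.pieceX i))
      (((Subobject.pullback ι).obj (𝓔.pieceX i)).arrow ≫ g)
      (by rw [Category.assoc, hg]; exact (Subobject.isPullback ι (𝓔.pieceX i)).w)
    haveI : Mono l := mono_of_mono_fac ((Subobject.isPullback j (𝓔.pieceX i)).lift_snd _ _ _)
    exact eventually_le hL l c1 c2 h1 h2
  refine (eventually_all.2 key).mono fun m hm => ?_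
  have e1 : parPoly (𝓔.induced ι) QX = Polynomial.C (𝓔.wt 0) * rpoly (QX 0) +
      ∑ i, Polynomial.C (step 𝓔 i) * rpoly (QX i.succ) := parPoly_eq (𝓔.induced ι) QX
  have e2 : parPoly (𝓔.induced j) VX = Polynomial.C (𝓔.wt 0) * rpoly (VX 0) +
      ∑ i, Polynomial.C (step 𝓔 i) * rpoly (VX i.succ) := parPoly_eq (𝓔.induced j) VX
  rw [e1, e2]
  simp only [Polynomial.eval_add, Polynomial.eval_finsetSum, Polynomial.eval_mul, Polynomial.eval_C,
    rpoly_eval]
  refine add_le_add (mul_le_mul_of_nonneg_left (by exact_mod_cast hm 0) 𝓔.wt_nonneg)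
    (Finset.sum_le_sum fun i _ => mul_le_mul_of_nonneg_left (by exact_mod_cast hm i.succ) ?_)
  exact step_nonneg 𝓔 i

end Groth.Agent.Lib.ParPoly.Stab
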